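import Groth.Agent.H21Clif.Split

/-!
A regular form of even rank has, fppf-locally, a hyperbolic family.
-/

set_option autoImplicit false
set_option linter.style.haveILetI false
set_option linter.unusedSectionVars false

universe u

open TensorProduct IsLocalRing Groth.Agent.H21Clif

namespace Groth.Agent.H02CA.Cliff

/-- Orthogonal pairs of isotropic vectors with pairing one. -/
structure Hyp {A N : Type u} [CommRing A] [AddCommGroup N] [Module A N] {m : ℕ} (Q : QuadraticForm A N)
    (e f : Fin m → N) : Prop where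
  ze : ∀ i, Q (e i) = 0
  zf : ∀ i, Q (f i) = 0
  ee : ∀ i j, i ≠ j → QuadraticMap.polar Q (e i) (e j) = 0
  ff : ∀ i j, i ≠ j → QuadraticMap.polar Q (f i) (f j) = 0
  ef : ∀ i j, QuadraticMap.polar Q (e i) (f j) = if i = j then 1 else 0

section Pairs

variable {A N : Type u} [CommRing A] [AddCommGroup N] [Module A N] {m : ℕ}

/-- Orthogonal pairs with invertible data. -/
structure Pairs (Q : QuadraticForm A N) (x y : Fin m → N) : Prop where
  xx : ∀ i j, i ≠ j → QuadraticMap.polar Q (x i) (x j) = 0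
  yy : ∀ i j, i ≠ j → QuadraticMap.polar Q (y i) (y j) = 0
  xy : ∀ i j, i ≠ j → QuadraticMap.polar Q (x i) (y j) = 0
  a : ∀ i, IsUnit (Q (x i))
  disc : ∀ i, IsUnit (QuadraticMap.polar Q (x i) (y i) * QuadraticMap.polar Q (x i) (y i) - 4 * (Q (x i) * Q (y i)))

theorem Pairs.hyp_of_roots {Q : QuadraticForm A N} {x y : Fin m → N} (h : Pairs Q x y) (t : Fin m → A)
    (ht : ∀ i, Q (x i) * (t i * t i) + QuadraticMap.polar Q (x i) (y i) * t i + Q (y i) = 0) :
    ∃ e f, Hyp (m := m) Q e f := by
  let a := fun i => Q (x i)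
  let c := fun i => Q (y i)
  let β := fun i => QuadraticMap.polar Q (x i) (y i)
  let t' := fun i => -((↑(h.a i).unit⁻¹ : A) * β i) - t i
  have ha : ∀ i, (↑(h.a i).unit⁻¹ : A) * a i = 1 := fun i => (h.a i).val_inv_mul
  have hQc : ∀ (i : Fin m) (s : A), Q (s • x i + y i) = a i * (s * s) + β i * s + c i := fun i s => by
    rw [QuadraticMap.map_add Q, QuadraticMap.map_smul, QuadraticMap.polar_smul_left, smul_eq_mul, smul_eq_mul]
    ring
  let u := fun i => t i • x i + y i
  let w := fun i => t' i • x i + y i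
  have hQu : ∀ i, Q (u i) = 0 := fun i => by rw [hQc]; exact ht i
  have hQw : ∀ i, Q (w i) = 0 := fun i => by
    rw [hQc]
    simp only [t']
    linear_combination ht i + ((↑(h.a i).unit⁻¹ : A) * β i * β i + 2 * β i * t i) * ha i
  have hpair : ∀ i, QuadraticMap.polar Q (u i) (w i) =
      -((↑(h.a i).unit⁻¹ : A) * (β i * β i - 4 * (a i * c i))) := fun i => by
    simp only [u, w, QuadraticMap.polar_add_left, QuadraticMap.polar_add_right, QuadraticMap.polar_smul_left,
      QuadraticMap.polar_smul_right, QuadraticMap.polar_self, smul_eq_mul, nsmul_eq_mul, Nat.cast_ofNat,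
      QuadraticMap.polar_comm Q (y i) (x i)]
    simp only [t']
    linear_combination (-2 : A) * ht i + (-(2 * β i * t i) - 4 * c i) * ha i
  have hpu : ∀ i, IsUnit (QuadraticMap.polar Q (u i) (w i)) := fun i => by
    rw [hpair]; exact ((Units.isUnit _).mul (h.disc i)).neg
  have gg : ∀ i j (s s' : A), i ≠ j → QuadraticMap.polar Q (s • x i + y i) (s' • x j + y j) = 0 :=
    fun i j s s' hij => by
      have hyx : QuadraticMap.polar Q (y i) (x j) = 0 := by
        rw [QuadraticMap.polar_comm]; exact h.xy j i (Ne.symm hij)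
      simp [QuadraticMap.polar_add_left, QuadraticMap.polar_add_right, QuadraticMap.polar_smul_left,
        QuadraticMap.polar_smul_right, h.xx i j hij, h.yy i j hij, h.xy i j hij, hyx]
  refine ⟨u, fun i => (↑(hpu i).unit⁻¹ : A) • w i,
    ⟨hQu, fun i => by simp [QuadraticMap.map_smul, hQw],
      fun i j hij => gg i j _ _ hij,
      fun i j hij => by
        rw [QuadraticMap.polar_smul_left, QuadraticMap.polar_smul_right,
          show QuadraticMap.polar Q (w i) (w j) = 0 from gg i j _ _ hij, smul_zero, smul_zero],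
      fun i j => ?_⟩⟩
  rw [QuadraticMap.polar_smul_right]
  split_ifs with hij
  · subst hij
    exact (hpu i).val_inv_mul
  · rw [show QuadraticMap.polar Q (u i) (w j) = 0 from gg i j _ _ hij, smul_zero]

end Pairs

section Global

variable {R : Type u} [CommRing R] {M : Type u} [AddCommGroup M] [Module R M] [Module.Free R M] {m : ℕ}
variable (b : Module.Basis (Fin (2 * m)) R M) (Q : QuadraticForm R M)

include b in
theorem exists_pairs_away (hQ : QuadGrp.IsRegular Q) (p : Ideal R) [p.IsPrime] :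
    ∃ T ∉ p, ∃ x y : Fin m → M, Pairs (QuadGrp.baseChangeForm (Localization.Away T) Q)
      (fun i => 1 ⊗ₜ x i) (fun i => 1 ⊗ₜ y i) := by
  classical
  haveI := Module.Finite.of_basis b
  let Rp := Localization.AtPrime p
  let Qp := QuadGrp.baseChangeForm Rp Q
  have hQp : QuadGrp.IsRegular Qp := isRegular_baseChange Rp Q b hQ
  let E := (Submodule.topEquiv : (⊤ : Submodule Rp (Rp ⊗[R] M)) ≃ₗ[Rp] Rp ⊗[R] M)
  haveI : Module.Free Rp (⊤ : Submodule Rp (Rp ⊗[R] M)) := Module.Free.of_equiv E.symm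
  haveI : Module.Finite Rp (⊤ : Submodule Rp (Rp ⊗[R] M)) := Module.Finite.equiv E.symm
  have hreg : RegOn Qp (⊤ : Submodule Rp (Rp ⊗[R] M)) := by
    refine ⟨fun a c h => Subtype.ext (hQp.1 (LinearMap.ext fun v => ?_)), fun φ => ?_⟩
    · exact LinearMap.congr_fun h ⟨v, trivial⟩
    · obtain ⟨u, hu⟩ := hQp.2 (φ.comp E.symm.toLinearMap)
      refine ⟨⟨u, trivial⟩, LinearMap.ext fun w => ?_⟩
      exact (LinearMap.congr_fun hu w).trans (congrArg φ (E.symm_apply_apply w))
  obtain ⟨e, f, -, hz, hu, -⟩ := exists_pairs (Q := Qp) m ⊤ (by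
    rw [E.finrank_eq, Module.finrank_eq_card_basis (Algebra.TensorProduct.basis Rp b), Fintype.card_fin]) hreg
  choose xs hxs using fun i => IsLocalizedModule.surj p.primeCompl (TensorProduct.mk R Rp M 1) (e i)
  choose ys hys using fun i => IsLocalizedModule.surj p.primeCompl (TensorProduct.mk R Rp M 1) (f i)
  let x : Fin m → M := fun i => ((ys i).2 : R) • (xs i).1
  let y : Fin m → M := fun i => ((xs i).2 : R) • (ys i).1
  let σ : Fin m → Rp := fun i => algebraMap R Rp (((ys i).2 : R) * ((xs i).2 : R))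
  have hσ : ∀ i, IsUnit (σ i) := fun i =>
    IsLocalization.map_units Rp ((ys i).2 * (xs i).2)
  have hx : ∀ i, (1 : Rp) ⊗ₜ[R] x i = σ i • e i := fun i => by
    have h := hxs i
    change ((xs i).2 : R) • e i = (1 : Rp) ⊗ₜ[R] (xs i).1 at h
    simp only [x, σ]
    rw [TensorProduct.tmul_smul, ← h, smul_smul, algebraMap_smul]
  have hy : ∀ i, (1 : Rp) ⊗ₜ[R] y i = σ i • f i := fun i => by
    have h := hys i
    change ((ys i).2 : R) • f i = (1 : Rp) ⊗ₜ[R] (ys i).1 at h
    simp only [y, σ]
    rw [TensorProduct.tmul_smul, ← h, smul_smul, algebraMap_smul, mul_comm]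
  have hQe : ∀ (v : M) (w : Rp ⊗[R] M) (s : Rp), (1 : Rp) ⊗ₜ[R] v = s • w →
      algebraMap R Rp (Q v) = s * s * Qp w := fun v w s hv => by
    have h := baseChangeForm_tmul Rp Q 1 v
    rw [one_mul, one_mul, hv, QuadraticMap.map_smul, smul_eq_mul] at h
    exact h.symm
  have hPe : ∀ (v v' : M) (w w' : Rp ⊗[R] M) (s s' : Rp), (1 : Rp) ⊗ₜ[R] v = s • w → (1 : Rp) ⊗ₜ[R] v' = s' • w' →
      algebraMap R Rp (QuadraticMap.polar Q v v') = s * s' * QuadraticMap.polar Qp w w' := fun v v' w w' s s' hv hv' => by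
    have h := polar_baseChangeForm_tmul Rp Q 1 1 v v'
    rw [one_mul, one_mul, hv, hv', QuadraticMap.polar_smul_left, QuadraticMap.polar_smul_right, smul_eq_mul,
      smul_eq_mul, ← mul_assoc] at h
    exact h.symm
  have hnot : ∀ r : R, IsUnit (algebraMap R Rp r) → r ∉ p := fun r h =>
    (IsLocalization.AtPrime.isUnit_to_map_iff Rp p r).mp h
  let disc : Fin m → R := fun i =>
    QuadraticMap.polar Q (x i) (y i) * QuadraticMap.polar Q (x i) (y i) - 4 * (Q (x i) * Q (y i))
  have ha : ∀ i, Q (x i) ∉ p := fun i => hnot _ (by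
    rw [hQe _ _ _ (hx i)]; exact ((hσ i).mul (hσ i)).mul (hu i).1)
  have hd : ∀ i, disc i ∉ p := fun i => hnot _ (by
    simp only [disc, map_sub, map_mul, map_ofNat, hPe _ _ _ _ _ _ (hx i) (hy i), hQe _ _ _ (hx i), hQe _ _ _ (hy i)]
    convert (((hσ i).mul (hσ i)).mul ((hσ i).mul (hσ i))).mul (hu i).2.2 using 1
    simp only [QuadraticMap.polarBilin_apply_apply]
    ring)
  have hkill : ∀ i j, ∃ t ∉ p, i ≠ j → t * QuadraticMap.polar Q (x i) (x j) = 0 ∧
      t * QuadraticMap.polar Q (y i) (y j) = 0 ∧ t * QuadraticMap.polar Q (x i) (y j) = 0 := fun i j => by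
    by_cases hij : i = j
    · exact ⟨1, fun h => ‹p.IsPrime›.ne_top ((Ideal.eq_top_iff_one p).2 h), fun h => absurd hij h⟩
    · have hz' := hz i j hij
      simp only [QuadraticMap.polarBilin_apply_apply] at hz'
      have hk : ∀ r : R, algebraMap R Rp r = 0 → ∃ t : p.primeCompl, (t : R) * r = 0 := fun r hr =>
        (IsLocalization.map_eq_zero_iff p.primeCompl Rp r).mp hr
      obtain ⟨t₁, ht₁⟩ := hk (QuadraticMap.polar Q (x i) (x j)) (by rw [hPe _ _ _ _ _ _ (hx i) (hx j), hz'.1, mul_zero])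
      obtain ⟨t₂, ht₂⟩ := hk (QuadraticMap.polar Q (y i) (y j)) (by rw [hPe _ _ _ _ _ _ (hy i) (hy j), hz'.2.2, mul_zero])
      obtain ⟨t₃, ht₃⟩ := hk (QuadraticMap.polar Q (x i) (y j)) (by rw [hPe _ _ _ _ _ _ (hx i) (hy j), hz'.2.1, mul_zero])
      refine ⟨(t₁ * t₂ * t₃ : p.primeCompl), (t₁ * t₂ * t₃).2, fun _ => ⟨?_, ?_, ?_⟩⟩ <;>
        simp only [Submonoid.coe_mul]
      · linear_combination (t₂ : R) * t₃ * ht₁
      · linear_combination (t₁ : R) * t₃ * ht₂
      · linear_combination (t₁ : R) * t₂ * ht₃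
  choose t htp hte using hkill
  let T := (∏ i, Q (x i)) * (∏ i, disc i) * ∏ ij : Fin m × Fin m, t ij.1 ij.2
  refine ⟨T, (‹p.IsPrime›.mul_notMem (‹p.IsPrime›.mul_notMem
    (fun h => by obtain ⟨i, -, h'⟩ := (Ideal.IsPrime.prod_mem_iff (p := p)).mp h; exact ha i h')
    (fun h => by obtain ⟨i, -, h'⟩ := (Ideal.IsPrime.prod_mem_iff (p := p)).mp h; exact hd i h'))
    (fun h => by obtain ⟨i, -, h'⟩ := (Ideal.IsPrime.prod_mem_iff (p := p)).mp h; exact htp _ _ h')), x, y, ?_⟩
  let A := Localization.Away T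
  have hun : ∀ r, r ∣ T → IsUnit (algebraMap R A r) := fun r hr =>
    isUnit_of_dvd_unit (map_dvd _ hr) (IsLocalization.Away.algebraMap_isUnit T)
  have dA : ∀ i, Q (x i) ∣ T := fun i =>
    ((Finset.dvd_prod_of_mem _ (Finset.mem_univ i)).mul_right _).mul_right _
  have dd : ∀ i, disc i ∣ T := fun i => ((Finset.dvd_prod_of_mem _ (Finset.mem_univ i)).mul_left _).mul_right _
  have dt : ∀ i j, t i j ∣ T := fun i j =>
    (Finset.dvd_prod_of_mem (fun ij : Fin m × Fin m => t ij.1 ij.2) (Finset.mem_univ (i, j))).mul_left _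
  have hzero : ∀ i j (r : R), t i j * r = 0 → algebraMap R A r = 0 := fun i j r hr =>
    (hun _ (dt i j)).mul_right_eq_zero.mp (by rw [← map_mul, hr, map_zero])
  refine ⟨fun i j hij => ?_, fun i j hij => ?_, fun i j hij => ?_, fun i => ?_, fun i => ?_⟩
  · rw [polar_baseChangeForm_tmul, one_mul, one_mul]; exact hzero i j _ (hte i j hij).1
  · rw [polar_baseChangeForm_tmul, one_mul, one_mul]; exact hzero i j _ (hte i j hij).2.1
  · rw [polar_baseChangeForm_tmul, one_mul, one_mul]; exact hzero i j _ (hte i j hij).2.2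
  · simpa only [baseChangeForm_tmul, one_mul] using hun _ (dA i)
  · simpa only [polar_baseChangeForm_tmul, baseChangeForm_tmul, one_mul, disc, map_sub, map_mul, map_ofNat]
      using hun _ (dd i)

include b in
theorem exists_pairs_fppf (hQ : QuadGrp.IsRegular Q) :
    ∃ (A : Type u) (_ : CommRing A) (_ : Algebra R A), Module.FaithfullyFlat R A ∧ Algebra.FinitePresentation R A ∧
      ∃ x y : Fin m → A ⊗[R] M, Pairs (QuadGrp.baseChangeForm A Q) x y := by
  classical
  choose T hT x₀ y₀ hP using fun p : PrimeSpectrum R => exists_pairs_away b Q hQ p.asIdeal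
  have hspan : Ideal.span (Set.range T) = ⊤ := by
    by_contra hne
    obtain ⟨p, hp, hle⟩ := Ideal.exists_le_maximal _ hne
    exact hT ⟨p, hp.isPrime⟩ (hle (Ideal.subset_span ⟨_, rfl⟩))
  obtain ⟨S, hS, hone⟩ := Submodule.mem_span_finite_of_mem_span
    (show (1 : R) ∈ Submodule.span R (Set.range T) by
      change (1 : R) ∈ Ideal.span (Set.range T)
      rw [hspan]; trivial)
  let J := ↥S
  choose pj hpj using fun j : J => hS j.2
  let A := ∀ j : J, Localization.Away (T (pj j))
  let ev : ∀ j : J, A →ₐ[R] Localization.Away (T (pj j)) := fun j =>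
    Pi.evalAlgHom R (fun j => Localization.Away (T (pj j))) j
  haveI : ∀ j : J, Module.Flat R (Localization.Away (T (pj j))) := fun j =>
    IsLocalization.flat _ (Submonoid.powers (T (pj j)))
  haveI : Module.Flat R (Π₀ j : J, Localization.Away (T (pj j))) := Module.Flat.dfinsupp
  haveI : Module.Flat R A :=
    Module.Flat.of_linearEquiv
      (DFinsupp.linearEquivFunOnFintype (R := R) (M := fun j : J => Localization.Away (T (pj j)))).symm
  have hsurj : Function.Surjective (PrimeSpectrum.comap (algebraMap R A)) := fun q => by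
    obtain ⟨j, hj⟩ : ∃ j : J, T (pj j) ∉ q.asIdeal := by
      by_contra! hall
      refine q.isPrime.ne_top ((Ideal.eq_top_iff_one _).mpr ?_)
      exact Submodule.span_le.mpr (fun r hr => by
        have := hall ⟨r, hr⟩
        rwa [hpj] at this) hone
    have hq : q ∈ Set.range (PrimeSpectrum.comap (algebraMap R (Localization.Away (T (pj j))))) := by
      rw [PrimeSpectrum.localization_away_comap_range (Localization.Away (T (pj j))) (T (pj j))]
      exact hj
    obtain ⟨q', hq'⟩ := hq
    exact ⟨PrimeSpectrum.comap (ev j).toRingHom q', by rw [← hq']; rfl⟩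
  haveI hff : Module.FaithfullyFlat R A := Module.FaithfullyFlat.of_comap_surjective hsurj
  haveI : ∀ j : J, Algebra.FinitePresentation R (Localization.Away (T (pj j))) := fun j =>
    IsLocalization.Away.finitePresentation (T (pj j))
  let lift' : (PrimeSpectrum R → Fin m → M) → Fin m → A ⊗[R] M := fun z i =>
    ∑ k, (fun j => algebraMap R (Localization.Away (T (pj j))) (b.repr (z (pj j) i) k) : A) ⊗ₜ[R] b k
  have hl : ∀ z j i, LinearMap.rTensor M (ev j).toLinearMap (lift' z i) = 1 ⊗ₜ[R] z (pj j) i := fun z j i => by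
    simp only [lift', map_sum, LinearMap.rTensor_tmul]
    conv_rhs => rw [← b.sum_repr (z (pj j) i), TensorProduct.tmul_sum]
    refine Finset.sum_congr rfl fun k _ => ?_
    rw [TensorProduct.tmul_smul, TensorProduct.smul_tmul', Algebra.smul_def, mul_one]
    rfl
  have hunit : ∀ a : A, (∀ j, IsUnit (ev j a)) → IsUnit a := fun a h => Pi.isUnit_iff.mpr h
  refine ⟨A, inferInstance, inferInstance, hff, inferInstance, lift' x₀, lift' y₀,
    ⟨fun i j' h => funext fun j => ?_, fun i j' h => funext fun j => ?_, fun i j' h => funext fun j => ?_,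
      fun i => hunit _ fun j => ?_, fun i => hunit _ fun j => ?_⟩⟩
  · have h1 := (hP (pj j)).xx i j' h
    simp only [← hl, polar_rTensor] at h1
    exact h1
  · have h1 := (hP (pj j)).yy i j' h
    simp only [← hl, polar_rTensor] at h1
    exact h1
  · have h1 := (hP (pj j)).xy i j' h
    simp only [← hl, polar_rTensor] at h1
    exact h1
  · rw [← baseChangeForm_rTensor, hl]; exact (hP (pj j)).a i
  · rw [map_sub, map_mul, map_mul, map_mul, map_ofNat, ← polar_rTensor, ← baseChangeForm_rTensor,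
      ← baseChangeForm_rTensor, hl, hl]
    exact (hP (pj j)).disc i

theorem Pairs.map {A B : Type u} [CommRing A] [Algebra R A] [CommRing B] [Algebra R B] (φ : A →ₐ[R] B)
    {x y : Fin m → A ⊗[R] M} (h : Pairs (QuadGrp.baseChangeForm A Q) x y) :
    Pairs (QuadGrp.baseChangeForm B Q) (fun i => LinearMap.rTensor M φ.toLinearMap (x i))
      (fun i => LinearMap.rTensor M φ.toLinearMap (y i)) := by
  refine ⟨fun i j hij => ?_, fun i j hij => ?_, fun i j hij => ?_, fun i => ?_, fun i => ?_⟩
  · rw [polar_rTensor, h.xx i j hij, map_zero]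
  · rw [polar_rTensor, h.yy i j hij, map_zero]
  · rw [polar_rTensor, h.xy i j hij, map_zero]
  · rw [baseChangeForm_rTensor]; exact (h.a i).map φ
  · rw [polar_rTensor, baseChangeForm_rTensor, baseChangeForm_rTensor, ← map_mul, ← map_mul, ← map_ofNat φ 4,
      ← map_mul, ← map_sub]
    exact (h.disc i).map φ

include b in
theorem exists_hyp_fppf (hQ : QuadGrp.IsRegular Q) :
    ∃ (B : Type u) (_ : CommRing B) (_ : Algebra R B), Module.FaithfullyFlat R B ∧ Algebra.FinitePresentation R B ∧
      ∃ e f : Fin m → B ⊗[R] M, Hyp (QuadGrp.baseChangeForm B Q) e f := by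
  obtain ⟨A, _, _, hff, hfp, x, y, hxy⟩ := exists_pairs_fppf b Q hQ
  let Q' := QuadGrp.baseChangeForm A Q
  let cf : Fin m → A × A := fun i =>
    ((↑(hxy.a i).unit⁻¹ : A) * QuadraticMap.polar Q' (x i) (y i), (↑(hxy.a i).unit⁻¹ : A) * Q' (y i))
  obtain ⟨B, _, _, hff', hfp', hroots⟩ := exists_roots m cf
  letI : Algebra R B := ((algebraMap A B).comp (algebraMap R A)).toAlgebra
  haveI : IsScalarTower R A B := IsScalarTower.of_algebraMap_eq fun _ => rfl
  let φ := IsScalarTower.toAlgHom R A B
  choose s hs using hroots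
  refine ⟨B, inferInstance, inferInstance, Module.FaithfullyFlat.trans R A B,
    Algebra.FinitePresentation.trans R A B, (hxy.map Q φ).hyp_of_roots s fun i => ?_⟩
  have h := hs i
  simp only [cf, map_mul] at h
  have e : algebraMap A B ↑(hxy.a i).unit⁻¹ * φ (Q' (x i)) = 1 := by
    change φ _ * φ _ = 1
    rw [← map_mul, (hxy.a i).val_inv_mul, map_one]
  rw [polar_rTensor, baseChangeForm_rTensor, baseChangeForm_rTensor]
  simp only [φ, IsScalarTower.coe_toAlgHom'] at e ⊢
  linear_combination algebraMap A B (Q' (x i)) * h -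
    (algebraMap A B (QuadraticMap.polar Q' (x i) (y i)) * s i + algebraMap A B (Q' (y i))) * e

end Global

end Groth.Agent.H02CA.Cliff
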