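import Groth.Agent.H02CA.Cliff.EvenHyp
import Groth.Agent.H21Clif.EvenSplit
import Groth.Agent.H21Clif.Global

/-!
The Clifford algebra of a regular form of even rank: local matrix structure and centres.
-/

set_option autoImplicit false
set_option linter.style.haveILetI false
set_option linter.unusedSectionVars false

universe u

open TensorProduct CliffordAlgebra Groth.Agent.H21Clif

namespace Groth.Agent.H02CA.Cliff

theorem zmod2_cases : ∀ q : ZMod 2, q = 0 ∨ q = 1 := by decide

theorem zmod2_ne_iff : ∀ p q : ZMod 2, (¬ q = p) ↔ q = p + 1 := by decide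

theorem zmod2_self_ne_add_one : ∀ q : ZMod 2, q ≠ q + 1 := by decide

section Rep

variable {B : Type u} [CommRing B] {N : Type u} [AddCommGroup N] [Module B N] {m : ℕ} {Q' : QuadraticForm B N}
  {e f : Fin m → N}

local notation "Λ" => ExteriorAlgebra B (Fin m → B)

/-- The value of a sum of orthogonal hyperbolic pairs. -/
theorem Hyp.value (h : Hyp Q' e f) (a c : Fin m → B) :
    Q' (∑ i, (a i • e i + c i • f i)) = ∑ i, a i * c i := by
  classical
  have key : ∀ s : Finset (Fin m), Q' (∑ i ∈ s, (a i • e i + c i • f i)) = ∑ i ∈ s, a i * c i := by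
    intro s
    induction s using Finset.induction with
    | empty => simp
    | insert j s hj ih =>
      have hz : ∀ l ∈ s, QuadraticMap.polar Q' (a j • e j + c j • f j) (a l • e l + c l • f l) = 0 := fun l hl => by
        have hjl : j ≠ l := fun hh => hj (hh ▸ hl)
        have h1 : QuadraticMap.polar Q' (f j) (e l) = 0 := by
          rw [QuadraticMap.polar_comm, h.ef l j, if_neg (Ne.symm hjl)]
        simp [QuadraticMap.polar_add_left, QuadraticMap.polar_add_right, QuadraticMap.polar_smul_left,
          QuadraticMap.polar_smul_right, h.ee j l hjl, h.ff j l hjl, h.ef j l, hjl, h1]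
      have hp : QuadraticMap.polar Q' (a j • e j + c j • f j) (∑ l ∈ s, (a l • e l + c l • f l)) = 0 := by
        rw [← QuadraticMap.polarBilin_apply_apply, map_sum]
        exact Finset.sum_eq_zero hz
      rw [Finset.sum_insert hj, Finset.sum_insert hj, QuadraticMap.map_add Q', hp, add_zero, ih,
        QuadraticMap.map_add Q', QuadraticMap.map_smul, QuadraticMap.map_smul, QuadraticMap.polar_smul_left,
        QuadraticMap.polar_smul_right, h.ze, h.zf, h.ef j j, if_pos rfl]
      simp only [smul_eq_mul]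
      ring
  exact key _

/-- The coordinates along a hyperbolic family. -/
def hc (Q' : QuadraticForm B N) (g : Fin m → N) : N →ₗ[B] (Fin m → B) :=
  LinearMap.pi fun i => (QuadraticMap.polarBilin Q').flip (g i)

theorem hc_apply (g : Fin m → N) (x : N) (i : Fin m) : hc Q' g x i = QuadraticMap.polar Q' x (g i) := rfl

/-- A hyperbolic family of full rank spans. -/
theorem Hyp.decomp (h : Hyp Q' e f) (bN : Module.Basis (Fin (2 * m)) B N) (x : N) :
    x = ∑ i, (hc Q' f x i • e i + hc Q' e x i • f i) := by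
  classical
  let L : N →ₗ[B] (Fin m → B) × (Fin m → B) := (hc Q' f).prod (hc Q' e)
  have hL : ∀ y, L (∑ i, (y.1 i • e i + y.2 i • f i)) = y := fun y => by
    refine Prod.ext (funext fun l => ?_) (funext fun l => ?_)
    · show hc Q' f (∑ i, (y.1 i • e i + y.2 i • f i)) l = y.1 l
      rw [map_sum, Finset.sum_apply, Finset.sum_eq_single l (fun i _ hil => ?_)
        (fun hn => absurd (Finset.mem_univ _) hn)]
      · simp [hc_apply, QuadraticMap.polar_add_left, QuadraticMap.polar_smul_left, h.ef,
          QuadraticMap.polar_self, h.zf]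
      · simp [hc_apply, QuadraticMap.polar_add_left, QuadraticMap.polar_smul_left, h.ef, hil, h.ff i l hil]
    · show hc Q' e (∑ i, (y.1 i • e i + y.2 i • f i)) l = y.2 l
      rw [map_sum, Finset.sum_apply, Finset.sum_eq_single l (fun i _ hil => ?_)
        (fun hn => absurd (Finset.mem_univ _) hn)]
      · simp [hc_apply, QuadraticMap.polar_add_left, QuadraticMap.polar_smul_left, h.ef,
          QuadraticMap.polar_self, h.ze, QuadraticMap.polar_comm Q' (f l) (e l)]
      · simp [hc_apply, QuadraticMap.polar_add_left, QuadraticMap.polar_smul_left, h.ef, h.ee i l hil,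
          QuadraticMap.polar_comm Q' (f i) (e l), Ne.symm hil]
  let E : N ≃ₗ[B] (Fin m → B) × (Fin m → B) :=
    bN.equivFun.trans ((LinearEquiv.funCongrLeft B B (finSumFinEquiv.trans (finCongr (two_mul m).symm))).trans
      (LinearEquiv.sumArrowLequivProdArrow (Fin m) (Fin m) B B))
  haveI : Module.Finite B N := Module.Finite.of_basis bN
  have hLs : Function.Surjective L := fun y => ⟨_, hL y⟩
  have hLi : Function.Injective L := fun a c hac =>
    OrzechProperty.injective_of_surjective_endomorphism (E.symm.toLinearMap ∘ₗ L)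
      (E.symm.surjective.comp hLs) (congrArg E.symm hac)
  exact hLi (hL (L x)).symm

/-- The operator of a vector on the exterior algebra. -/
noncomputable def op (Q' : QuadraticForm B N) (e f : Fin m → N) : N →ₗ[B] Module.End B Λ :=
  (LinearMap.mul B Λ ∘ₗ ExteriorAlgebra.ι B ∘ₗ hc Q' f) +
    (contractLeft (Q := (0 : QuadraticForm B (Fin m → B))) ∘ₗ
      (Fintype.linearCombination B fun i => (Pi.basisFun B (Fin m)).coord i) ∘ₗ hc Q' e)

theorem op_apply (x : N) : op Q' e f x = opL (hc Q' f x) +
    opC (Fintype.linearCombination B (fun i => (Pi.basisFun B (Fin m)).coord i) (hc Q' e x)) := rfl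

theorem op_sq (h : Hyp Q' e f) (bN : Module.Basis (Fin (2 * m)) B N) (x : N) :
    op Q' e f x * op Q' e f x = algebraMap B _ (Q' x) := by
  set δ := Fintype.linearCombination B (fun i => (Pi.basisFun B (Fin m)).coord i) (hc Q' e x)
  set v := hc Q' f x
  have hLL : opL v * opL v = 0 := LinearMap.ext fun z => by
    change ι (0 : QuadraticForm B (Fin m → B)) v * (ι (0 : QuadraticForm B (Fin m → B)) v * z) = 0
    rw [← mul_assoc, ι_sq_scalar]
    simp
  have hCC : opC δ * opC δ = 0 := LinearMap.ext fun z => contractLeft_contractLeft δ z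
  have hLC : opC δ * opL v + opL v * opC δ = algebraMap B _ (δ v) := LinearMap.ext fun z => by
    simp [opL, opC, contractLeft_ι_mul, Module.algebraMap_end_apply]
  have hδ : δ v = Q' x := by
    conv_rhs => rw [h.decomp bN x, h.value]
    simp only [δ, Fintype.linearCombination_apply, LinearMap.sum_apply, LinearMap.smul_apply,
      Module.Basis.coord_apply, Pi.basisFun_repr, smul_eq_mul]
    exact Finset.sum_congr rfl fun i _ => mul_comm _ _
  rw [op_apply, mul_add, add_mul, add_mul, hLL, hCC, zero_add, add_zero, hLC, hδ]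

/-- The representation on the exterior algebra. -/
noncomputable def rho (h : Hyp Q' e f) (bN : Module.Basis (Fin (2 * m)) B N) :
    CliffordAlgebra Q' →ₐ[B] Module.End B Λ :=
  CliffordAlgebra.lift Q' ⟨op Q' e f, op_sq h bN⟩

theorem rho_ι (h : Hyp Q' e f) (bN : Module.Basis (Fin (2 * m)) B N) (x : N) :
    rho h bN (ι Q' x) = op Q' e f x := lift_ι_apply _ _ x

theorem rho_surjective (h : Hyp Q' e f) (bN : Module.Basis (Fin (2 * m)) B N) :
    Function.Surjective (rho h bN) := by
  classical
  refine fun g => mem_of_mulLeft_of_ctr (Pi.basisFun B (Fin m)) (rho h bN).range (fun i => ?_) (fun i => ?_) g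
  · refine ⟨ι Q' (e i), (rho_ι h bN (e i)).trans ?_⟩
    have h1 : hc Q' f (e i) = (Pi.basisFun B (Fin m)) i := funext fun l => by
      rw [hc_apply, h.ef]
      simp [Pi.single_apply, eq_comm]
    have h2 : hc Q' e (e i) = 0 := funext fun l => by
      rw [hc_apply]
      by_cases hil : i = l
      · subst hil; simp [QuadraticMap.polar_self, h.ze]
      · exact h.ee i l hil
    rw [op_apply, h1, h2, map_zero]
    simp [opL, opC]
  · refine ⟨ι Q' (f i), (rho_ι h bN (f i)).trans ?_⟩
    have h1 : hc Q' f (f i) = 0 := funext fun l => by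
      rw [hc_apply]
      by_cases hil : i = l
      · subst hil; simp [QuadraticMap.polar_self, h.zf]
      · exact h.ff i l hil
    have h2 : hc Q' e (f i) = (Pi.basisFun B (Fin m)) i := funext fun l => by
      rw [hc_apply, QuadraticMap.polar_comm, h.ef]
      simp [Pi.single_apply]
    rw [op_apply, h1, h2]
    simp [opL, opC, H21Clif.ctr, Fintype.linearCombination_apply, Pi.single_apply, ite_smul]

local notation "E₀" => evenOdd (0 : QuadraticForm B (Fin m → B))

theorem op_mem (p : ZMod 2) {z : Λ} (hz : z ∈ E₀ p) (x : N) : op Q' e f x z ∈ E₀ (p + 1) := by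
  rw [op_apply, LinearMap.add_apply]
  refine add_mem ?_ ?_
  · rw [add_comm]
    exact SetLike.mul_mem_graded (ι_mem_evenOdd_one _ _) hz
  · exact contractLeft_mem _ hz

theorem rho_mem_even (h : Hyp Q' e f) (bN : Module.Basis (Fin (2 * m)) B N) {x : CliffordAlgebra Q'}
    (hx : x ∈ evenOdd Q' 0) : ∀ p {z : Λ}, z ∈ E₀ p → rho h bN x z ∈ E₀ p := by
  induction x, hx using CliffordAlgebra.even_induction with
  | algebraMap r =>
    intro p z hz
    rw [AlgHom.commutes, Module.algebraMap_end_apply]
    exact Submodule.smul_mem _ _ hz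
  | add x y _ _ hx hy =>
    intro p z hz
    rw [map_add, LinearMap.add_apply]
    exact add_mem (hx p hz) (hy p hz)
  | ι_mul_ι_mul v w x _ hx =>
    intro p z hz
    rw [map_mul, map_mul, Module.End.mul_apply, Module.End.mul_apply, rho_ι, rho_ι]
    have h2 : p = p + 1 + 1 := by rw [add_assoc, show (1 : ZMod 2) + 1 = 0 from rfl, add_zero]
    rw [h2]
    exact op_mem _ (op_mem _ (hx p hz) w) v

theorem rho_mem_odd (h : Hyp Q' e f) (bN : Module.Basis (Fin (2 * m)) B N) {x : CliffordAlgebra Q'}
    (hx : x ∈ evenOdd Q' 1) : ∀ p {z : Λ}, z ∈ E₀ p → rho h bN x z ∈ E₀ (p + 1) := by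
  induction x, hx using CliffordAlgebra.odd_induction with
  | ι v =>
    intro p z hz
    rw [rho_ι]
    exact op_mem _ hz v
  | add x y _ _ hx hy =>
    intro p z hz
    rw [map_add, LinearMap.add_apply]
    exact add_mem (hx p hz) (hy p hz)
  | ι_mul_ι_mul v w x _ hx =>
    intro p z hz
    rw [map_mul, map_mul, Module.End.mul_apply, Module.End.mul_apply, rho_ι, rho_ι]
    have h2 : p + 1 = p + 1 + 1 + 1 := by rw [add_assoc (p + 1), show (1 : ZMod 2) + 1 = 0 from rfl, add_zero]
    rw [h2]
    exact op_mem _ (op_mem _ (hx p hz) w) v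

theorem basis_mem (S : Finset (Fin m)) : (Pi.basisFun B (Fin m)).ExteriorAlgebra S ∈ E₀ (par S) := by
  rw [basis_eq_mono]
  have := prod_map_ι_mem (Q := (0 : QuadraticForm B (Fin m → B))) (S.sort.map (Pi.basisFun B (Fin m)))
  rw [List.map_map, List.length_map, Finset.length_sort] at this
  exact this

end Rep

theorem card_par (n : ℕ) (hn : 0 < n) (p : ZMod 2) :
    Fintype.card {S : Finset (Fin n) // par S = p} = 2 ^ (n - 1) := by
  classical
  let i₀ : Fin n := ⟨0, hn⟩
  have hflip : ∀ S : Finset (Fin n), par (symmDiff S {i₀}) = par S + 1 := fun S => by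
    by_cases h : i₀ ∈ S
    · have : symmDiff S {i₀} = S.erase i₀ := by
        ext a
        simp only [Finset.mem_symmDiff, Finset.mem_singleton, Finset.mem_erase]
        by_cases ha : a = i₀ <;> simp [ha, h]
      rw [this]
      have h1 := Finset.card_erase_add_one h
      unfold par
      rw [← h1, Nat.cast_add, Nat.cast_one, add_assoc, show (1 : ZMod 2) + 1 = 0 from rfl, add_zero]
    · have : symmDiff S {i₀} = insert i₀ S := by
        ext a
        simp only [Finset.mem_symmDiff, Finset.mem_singleton, Finset.mem_insert]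
        by_cases ha : a = i₀ <;> simp [ha, h]
      rw [this]
      unfold par
      rw [Finset.card_insert_of_notMem h, Nat.cast_add, Nat.cast_one]
  have key : ∀ p : ZMod 2, Fintype.card {S : Finset (Fin n) // par S = p} =
      Fintype.card {S : Finset (Fin n) // par S = p + 1} := fun p => by
    refine Fintype.card_congr ⟨fun S => ⟨symmDiff S.1 {i₀}, by rw [hflip, S.2]⟩,
      fun S => ⟨symmDiff S.1 {i₀}, by rw [hflip, S.2, add_assoc, show (1 : ZMod 2) + 1 = 0 from rfl, add_zero]⟩,
      fun S => Subtype.ext (symmDiff_symmDiff_cancel_right _ _), fun S => Subtype.ext (symmDiff_symmDiff_cancel_right _ _)⟩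
  have h1 := Fintype.card_congr (Equiv.sumCompl fun S : Finset (Fin n) => par S = p)
  have h2 : Fintype.card {S : Finset (Fin n) // ¬ par S = p} = Fintype.card {S : Finset (Fin n) // par S = p + 1} := by
    exact Fintype.card_congr (Equiv.subtypeEquivRight fun S => zmod2_ne_iff p (par S))
  rw [Fintype.card_sum, h2, ← key p, Fintype.card_finset, Fintype.card_fin] at h1
  have : 2 ^ n = 2 * 2 ^ (n - 1) := by rw [← pow_succ', Nat.sub_add_cancel hn]
  omega

section Main

variable {R : Type u} [CommRing R] {M : Type u} [AddCommGroup M] [Module R M] [Module.Free R M] {m : ℕ}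
variable (b : Module.Basis (Fin (2 * m)) R M) {Q : QuadraticForm R M} {B : Type u} [CommRing B] [Algebra R B]
variable {e f : Fin m → B ⊗[R] M} (h : Hyp (QuadGrp.baseChangeForm B Q) e f)

/-- The index types of the two parities. -/
abbrev I (m : ℕ) (p : ZMod 2) : Type := {S : Finset (Fin m) // par S = p}

/-- The matrices indexed by subsets. -/
noncomputable def Θ : (B ⊗[R] CliffordAlgebra Q) →ₐ[B] Matrix (Finset (Fin m)) (Finset (Fin m)) B :=
  ((LinearMap.toMatrixAlgEquiv (Pi.basisFun B (Fin m)).ExteriorAlgebra).toAlgHom.comp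
    (rho h (Algebra.TensorProduct.basis B b))).comp (ofBC B Q)

theorem Θ_one_tmul (x : CliffordAlgebra Q) : Θ b h ((1 : B) ⊗ₜ[R] x) =
    LinearMap.toMatrixAlgEquiv (Pi.basisFun B (Fin m)).ExteriorAlgebra
      (rho h (Algebra.TensorProduct.basis B b) (Ψ B Q x)) := by
  show LinearMap.toMatrixAlgEquiv (Pi.basisFun B (Fin m)).ExteriorAlgebra
      (rho h (Algebra.TensorProduct.basis B b) (ofBC B Q (1 ⊗ₜ x))) = _
  congr 2
  exact bcEquiv_one_tmul B Q x

theorem Θ_apply_eq_zero {x : CliffordAlgebra Q} {q : ZMod 2} (hx : x ∈ evenOdd Q q) {T S : Finset (Fin m)}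
    (hTS : par T ≠ par S + q) : Θ b h ((1 : B) ⊗ₜ[R] x) T S = 0 := by
  rw [Θ_one_tmul, LinearMap.toMatrixAlgEquiv_apply]
  refine (mem_evenOdd_iff (Q := (0 : QuadraticForm B (Fin m → B))) (Pi.basisFun B (Fin m)).ExteriorAlgebra par
    basis_mem (par S + q) _).mp ?_ T hTS
  rcases zmod2_cases q with rfl | rfl
  · rw [add_zero]
    exact rho_mem_even h _ (Ψ_mem B Q hx) _ (basis_mem S)
  · exact rho_mem_odd h _ (Ψ_mem B Q hx) _ (basis_mem S)

theorem Θ_bijective : Function.Bijective (Θ b h) := by
  classical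
  have hs : Function.Surjective (Θ b h) :=
    ((LinearMap.toMatrixAlgEquiv (Pi.basisFun B (Fin m)).ExteriorAlgebra).surjective.comp
      (rho_surjective h (Algebra.TensorProduct.basis B b))).comp (bcEquiv B Q).surjective
  let bC := Algebra.TensorProduct.basis B (cBasis b Q)
  have hcard : Fintype.card (Finset (Fin (2 * m))) = Fintype.card (Finset (Fin m) × Finset (Fin m)) := by
    rw [Fintype.card_prod, Fintype.card_finset, Fintype.card_finset, Fintype.card_fin, Fintype.card_fin, two_mul, pow_add]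
  let ee := (Matrix.stdBasis B (Finset (Fin m)) (Finset (Fin m))).equiv bC (Fintype.equivOfCardEq hcard.symm)
  haveI : Module.Finite B (B ⊗[R] CliffordAlgebra Q) := Module.Finite.of_basis bC
  exact ⟨fun x y hxy => OrzechProperty.injective_of_surjective_endomorphism (ee.toLinearMap.comp (Θ b h).toLinearMap)
    (ee.surjective.comp hs) (congrArg ee hxy), hs⟩

include b h in
/-- The matrix structure of the whole algebra. -/
theorem matrix_equiv :
    Nonempty ((B ⊗[R] CliffordAlgebra Q) ≃ₐ[B] Matrix (Fin (2 ^ m)) (Fin (2 ^ m)) B) :=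
  ⟨(AlgEquiv.ofBijective (Θ b h) (Θ_bijective b h)).trans
    (Matrix.reindexAlgEquiv B B (Fintype.equivFinOfCardEq (by simp)))⟩

/-- The embedded even part. -/
noncomputable def evenIn : (B ⊗[R] ↥(CliffordAlgebra.even Q)) →ₐ[B] (B ⊗[R] CliffordAlgebra Q) :=
  Algebra.TensorProduct.map (AlgHom.id B B) (CliffordAlgebra.even Q).val

theorem Θ_evenIn_eq_zero (x : B ⊗[R] ↥(CliffordAlgebra.even Q)) {T S : Finset (Fin m)} (hTS : par T ≠ par S) :
    Θ b h (evenIn x) T S = 0 := by
  induction x using TensorProduct.induction_on with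
  | zero => simp
  | tmul c x =>
    rw [show c ⊗ₜ[R] x = c • ((1 : B) ⊗ₜ[R] x) by rw [TensorProduct.smul_tmul', smul_eq_mul, mul_one], map_smul,
      map_smul, Matrix.smul_apply]
    have := Θ_apply_eq_zero b h (q := 0) (x := (x : CliffordAlgebra Q)) x.2 (T := T) (S := S) (by rwa [add_zero])
    simp only [evenIn, Algebra.TensorProduct.map_tmul, AlgHom.id_apply, Subalgebra.coe_val, this, smul_zero]
  | add x y hx hy => rw [map_add, map_add, Matrix.add_apply, hx, hy, add_zero]

/-- The block of a parity. -/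
noncomputable def blk (p : ZMod 2) : (B ⊗[R] ↥(CliffordAlgebra.even Q)) →ₐ[B] Matrix (I m p) (I m p) B :=
  AlgHom.ofLinearMap
    { toFun := fun x => (Θ b h (evenIn x)).submatrix Subtype.val Subtype.val
      map_add' := fun x y => by ext T S; simp
      map_smul' := fun c x => by ext T S; simp }
    (by ext T S; simp [Matrix.one_apply, Subtype.ext_iff])
    (fun x y => by
      classical
      ext T S
      simp only [LinearMap.coe_mk, AddHom.coe_mk, map_mul, Matrix.submatrix_apply, Matrix.mul_apply]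
      rw [← Finset.sum_subtype (Finset.univ.filter fun U : Finset (Fin m) => par U = p) (by simp)
        (fun U => Θ b h (evenIn x) T.1 U * Θ b h (evenIn y) U S.1)]
      refine (Finset.sum_filter_of_ne fun U _ hU => ?_).symm
      by_contra hUp
      exact hU (by rw [Θ_evenIn_eq_zero b h x (fun hh => hUp (hh.symm.trans T.2)), zero_mul]))

include b h in
theorem even_equiv (hm : 1 ≤ m) :
    Nonempty ((B ⊗[R] ↥(CliffordAlgebra.even Q)) ≃ₐ[B]
      (Matrix (Fin (2 ^ (m - 1))) (Fin (2 ^ (m - 1))) B × Matrix (Fin (2 ^ (m - 1))) (Fin (2 ^ (m - 1))) B)) := by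
  classical
  let Ξ := (blk b h 0).prod (blk b h 1)
  have hs : Function.Surjective Ξ := by
    rintro ⟨N₀, N₁⟩
    let N : Matrix (Finset (Fin m)) (Finset (Fin m)) B := Matrix.of fun T S =>
      if h0 : par T = 0 ∧ par S = 0 then N₀ ⟨T, h0.1⟩ ⟨S, h0.2⟩
      else if h1 : par T = 1 ∧ par S = 1 then N₁ ⟨T, h1.1⟩ ⟨S, h1.2⟩ else 0
    obtain ⟨y, hy⟩ := (Θ_bijective b h).2 N
    -- split off the odd part
    have hdec : ∀ y : B ⊗[R] CliffordAlgebra Q, ∃ y₀ : B ⊗[R] ↥(CliffordAlgebra.even Q), ∀ T S : Finset (Fin m),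
        par T = par S → Θ b h (evenIn y₀) T S = Θ b h y T S := by
      intro y
      induction y using TensorProduct.induction_on with
      | zero => exact ⟨0, fun T S _ => by simp⟩
      | tmul c x =>
        obtain ⟨x₀, h₀, x₁, h₁, rfl⟩ := exists_parts x
        refine ⟨c ⊗ₜ ⟨x₀, h₀⟩, fun T S hTS => ?_⟩
        have hz : Θ b h ((1 : B) ⊗ₜ[R] x₁) T S = 0 := Θ_apply_eq_zero b h h₁ (by
          rw [hTS]
          exact zmod2_self_ne_add_one _)
        rw [TensorProduct.tmul_add, map_add, Matrix.add_apply,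
          show c ⊗ₜ[R] x₁ = c • ((1 : B) ⊗ₜ[R] x₁) by rw [TensorProduct.smul_tmul', smul_eq_mul, mul_one],
          map_smul, Matrix.smul_apply, hz, smul_zero, add_zero]
        simp [evenIn]
      | add y z hy hz =>
        obtain ⟨y₀, hy₀⟩ := hy
        obtain ⟨z₀, hz₀⟩ := hz
        exact ⟨y₀ + z₀, fun T S hTS => by
          rw [map_add, map_add, map_add, Matrix.add_apply, Matrix.add_apply, hy₀ T S hTS, hz₀ T S hTS]⟩
    obtain ⟨y₀, hy₀⟩ := hdec y
    refine ⟨y₀, Prod.ext (Matrix.ext fun T S => ?_) (Matrix.ext fun T S => ?_)⟩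
    · show Θ b h (evenIn y₀) T.1 S.1 = N₀ T S
      rw [hy₀ _ _ (T.2.trans S.2.symm), hy]
      simp only [N, Matrix.of_apply]
      rw [dif_pos ⟨T.2, S.2⟩]
    · show Θ b h (evenIn y₀) T.1 S.1 = N₁ T S
      rw [hy₀ _ _ (T.2.trans S.2.symm), hy]
      simp only [N, Matrix.of_apply]
      rw [dif_neg (fun hh => by have := hh.1; rw [T.2] at this; exact one_ne_zero this), dif_pos ⟨T.2, S.2⟩]
  let bT := Algebra.TensorProduct.basis B (evenBasis b Q)
  let bP := (Matrix.stdBasis B (I m 0) (I m 0)).prod (Matrix.stdBasis B (I m 1) (I m 1))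
  have hcard : Fintype.card {S : Finset (Fin (2 * m)) // par S = 0} =
      Fintype.card ((I m 0 × I m 0) ⊕ (I m 1 × I m 1)) := by
    rw [card_par _ (by omega), Fintype.card_sum, Fintype.card_prod, Fintype.card_prod, card_par _ hm, card_par _ hm,
      ← pow_add, ← two_mul, ← pow_succ']
    congr 1
    omega
  let ee := bP.equiv bT (Fintype.equivOfCardEq hcard.symm)
  haveI : Module.Finite B (B ⊗[R] ↥(CliffordAlgebra.even Q)) := Module.Finite.of_basis bT
  have hinj : Function.Injective Ξ := fun x y hxy =>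
    OrzechProperty.injective_of_surjective_endomorphism (ee.toLinearMap.comp Ξ.toLinearMap)
      (ee.surjective.comp hs) (congrArg ee hxy)
  exact ⟨(AlgEquiv.ofBijective Ξ ⟨hinj, hs⟩).trans (AlgEquiv.prodCongr
    (Matrix.reindexAlgEquiv B B (Fintype.equivFinOfCardEq (card_par _ hm 0)))
    (Matrix.reindexAlgEquiv B B (Fintype.equivFinOfCardEq (card_par _ hm 1))))⟩

include b h in
theorem center_eq_bot (hm : 1 ≤ m) [Module.FaithfullyFlat R B] (hQ : QuadGrp.IsRegular Q) :
    Subalgebra.center R (CliffordAlgebra Q) = ⊥ := by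
  classical
  rw [eq_bot_iff]
  intro x hx
  obtain ⟨x₀, h₀, x₁, h₁, rfl⟩ := exists_parts x
  have hcomm : ∀ y, Commute ((1 : B) ⊗ₜ[R] (x₀ + x₁)) y := fun y => by
    induction y using TensorProduct.induction_on with
    | zero => exact Commute.zero_right _
    | tmul c z =>
      show _ * _ = _ * _
      rw [Algebra.TensorProduct.tmul_mul_tmul, Algebra.TensorProduct.tmul_mul_tmul, one_mul, mul_one,
        Subalgebra.mem_center_iff.1 hx z]
    | add y z hy hz => exact hy.add_right hz
  have hmc : ∀ N, Commute (Θ b h ((1 : B) ⊗ₜ[R] (x₀ + x₁))) N := fun N => by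
    obtain ⟨y, rfl⟩ := (Θ_bijective b h).2 N
    exact (hcomm y).map (Θ b h)
  obtain ⟨r, hr⟩ := Matrix.mem_range_scalar_of_commute_single
    (M := Θ b h ((1 : B) ⊗ₜ[R] (x₀ + x₁))) fun i j _ => (hmc _).symm
  have h1 : Θ b h ((1 : B) ⊗ₜ[R] x₁) = 0 := by
    ext T S
    by_cases hTS : par T = par S + 1
    · have hne' : par T ≠ par S := fun hh => zmod2_self_ne_add_one (par S) (hh ▸ hTS)
      have hne : T ≠ S := fun hh => hne' (hh ▸ rfl)
      have e0 : Θ b h ((1 : B) ⊗ₜ[R] x₀) T S = 0 := Θ_apply_eq_zero b h h₀ (by rwa [add_zero])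
      have e1 : Θ b h ((1 : B) ⊗ₜ[R] (x₀ + x₁)) T S = 0 := by
        rw [← hr, Matrix.scalar_apply, Matrix.diagonal_apply_ne _ hne]
      rw [TensorProduct.tmul_add, map_add, Matrix.add_apply, e0, zero_add] at e1
      exact e1
    · exact Θ_apply_eq_zero b h h₁ hTS
  have hx1 : x₁ = 0 := Module.FaithfullyFlat.tensorProduct_mk_injective (A := R) (B := B) (CliffordAlgebra Q) (by
    refine (Θ_bijective b h).1 ?_
    show Θ b h ((1 : B) ⊗ₜ[R] x₁) = Θ b h ((1 : B) ⊗ₜ[R] 0)
    rw [h1, TensorProduct.tmul_zero, map_zero])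
  subst hx1
  rw [add_zero] at hx ⊢
  obtain ⟨s, hs⟩ := exists_scalar_of_comm b hQ x₀ h₀ fun v => Subalgebra.mem_center_iff.1 hx _
  exact Algebra.mem_bot.2 ⟨s, hs.symm⟩

include b in
theorem centralizer_center_even (hm : 1 ≤ m) (hQ : QuadGrp.IsRegular Q) :
    Subalgebra.centralizer R
        ((CliffordAlgebra.even Q).val '' (Subalgebra.center R ↥(CliffordAlgebra.even Q) : Set ↥(CliffordAlgebra.even Q))) =
      CliffordAlgebra.even Q := by
  haveI := Module.Finite.of_basis b
  refine le_antisymm (fun x hx => ?_) (fun x hx => ?_)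
  · obtain ⟨x₀, h₀, x₁, h₁, rfl⟩ := exists_parts x
    have hzero : x₁ = 0 := eq_zero_of_forall_prime (R := R) fun p _ => by
      obtain ⟨c, s, d, hc, hs, hd, -⟩ := exists_scaled b p (even_two_mul m) (by omega) hQ (LinearEquiv.refl R M)
        (fun _ => rfl)
      refine ⟨d, hd, ?_⟩
      have hcen : (⟨c, hc.mem⟩ : ↥(CliffordAlgebra.even Q)) ∈ Subalgebra.center R ↥(CliffordAlgebra.even Q) :=
        (mem_center_even_iff _).mpr hc.central
      have h2 := (Subalgebra.mem_centralizer_iff R).1 hx c ⟨⟨c, hc.mem⟩, hcen, rfl⟩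
      have h3 : c * x₀ = x₀ * c := comm_even_of_anticomm hc.central h₀
      rw [mul_add, add_mul, h3, add_right_inj] at h2
      have h4 : ∀ y ∈ evenOdd Q 1, c * y = y * (algebraMap R _ s - c) := fun y hy => by
        induction y, hy using CliffordAlgebra.odd_induction with
        | ι v =>
          rw [eq_sub_of_add_eq (hc.rel v), mul_sub, ← Algebra.commutes, ← Algebra.smul_def]
        | add y z _ _ hy hz => rw [mul_add, add_mul, hy, hz]
        | ι_mul_ι_mul v w y _ hy => rw [← mul_assoc, hc.central, mul_assoc, hy, ← mul_assoc]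
      have h5 : x₁ * (algebraMap R _ s - 2 * c) = 0 := by
        have h6 := h4 x₁ h₁
        rw [h2] at h6
        rw [two_mul, ← sub_sub, mul_sub, ← h6, sub_self]
      rw [Algebra.smul_def, Algebra.commutes, ← hc.sq, ← mul_assoc, h5, zero_mul]
    rw [hzero, add_zero]
    exact h₀
  · refine (Subalgebra.mem_centralizer_iff R).2 ?_
    rintro _ ⟨y, hy, rfl⟩
    exact congrArg Subtype.val (Subalgebra.mem_center_iff.1 hy ⟨x, hx⟩).symm

end Main

end Groth.Agent.H02CA.Cliff
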